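import Mathlib

/-!
# Regular sequences: elementwise criterion, localization, spreading out
-/

universe u v

open RingTheory.Sequence Ideal

namespace GrothLib.RegSeqLoc

variable {A : Type u} [CommRing A]

theorem isWeaklyRegular_iff_mem (rs : List A) :
    IsWeaklyRegular A rs ↔ ∀ i (h : i < rs.length), ∀ x : A,
      rs[i] * x ∈ Ideal.ofList (rs.take i) → x ∈ Ideal.ofList (rs.take i) := by
  rw [isWeaklyRegular_iff]
  refine forall_congr' fun i => forall_congr' fun h => ?_
  rw [isSMulRegular_quotient_iff_mem_of_smul_mem]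
  simp only [smul_eq_mul, Ideal.mul_top]

theorem ofList_take_ofFn_mul {n : ℕ} (u : Fin n → A) (hu : ∀ i, IsUnit (u i)) (a : Fin n → A) (i : ℕ) :
    Ideal.ofList ((List.ofFn fun j => u j * a j).take i) = Ideal.ofList ((List.ofFn a).take i) := by
  refine le_antisymm (Ideal.span_le.2 ?_) (Ideal.span_le.2 ?_) <;> intro x hx <;>
    obtain ⟨j, hj, rfl⟩ := List.mem_take_iff_getElem.1 hx <;>
    simp only [List.getElem_ofFn, SetLike.mem_coe]
  · refine Ideal.mul_mem_left _ _ (Ideal.subset_span ?_)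
    exact List.mem_take_iff_getElem.2 ⟨j, by simpa using hj, by simp⟩
  · refine (Ideal.unit_mul_mem_iff_mem _ (hu ⟨j, by simp at hj; omega⟩)).1 (Ideal.subset_span ?_)
    exact List.mem_take_iff_getElem.2 ⟨j, by simpa using hj, by simp⟩

theorem isWeaklyRegular_ofFn_mul {n : ℕ} (u : Fin n → A) (hu : ∀ i, IsUnit (u i)) {a : Fin n → A}
    (h : IsWeaklyRegular A (List.ofFn a)) : IsWeaklyRegular A (List.ofFn fun j => u j * a j) := by
  rw [isWeaklyRegular_iff_mem] at h ⊢
  intro i hi x hx
  rw [ofList_take_ofFn_mul u hu] at hx ⊢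
  refine h i (by simpa using hi) x ?_
  simp only [List.getElem_ofFn, mul_assoc] at hx ⊢
  exact (Ideal.unit_mul_mem_iff_mem _ (hu _)).1 hx

variable [IsNoetherianRing A]

/-- A sequence weakly regular at a prime is weakly regular on a principal open around it. -/
theorem exists_away_isWeaklyRegular (S : Submonoid A) (Ap : Type v) [CommRing Ap] [Algebra A Ap]
    [IsLocalization S Ap] (rs : List A) (h : IsWeaklyRegular Ap (rs.map (algebraMap A Ap))) :
    ∃ g ∈ S, ∀ (T : Submonoid A) (B : Type u) [CommRing B] [Algebra A B] [IsLocalization T B],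
      IsUnit (algebraMap A B g) → IsWeaklyRegular B (rs.map (algebraMap A B)) := by
  classical
  rw [isWeaklyRegular_iff_mem] at h
  have hi : ∀ i : Fin rs.length, ∃ s ∈ S, ∀ x : A, rs[i.1] * x ∈ Ideal.ofList (rs.take i.1) →
      s * x ∈ Ideal.ofList (rs.take i.1) := by
    intro i
    let J := Ideal.ofList (rs.take i.1)
    let K : Ideal A := Submodule.comap (LinearMap.mulLeft A rs[i.1]) J
    obtain ⟨gen, hgen⟩ := (inferInstance : IsNoetherian A A).noetherian K
    have : ∀ x ∈ gen, ∃ s ∈ S, s * x ∈ J := by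
      intro x hx
      have hxK : rs[i.1] * x ∈ J := hgen.le (Submodule.subset_span hx)
      have hmap : algebraMap A Ap x ∈ J.map (algebraMap A Ap) := by
        have e : J.map (algebraMap A Ap) = Ideal.ofList ((rs.map (algebraMap A Ap)).take i.1) := by
          rw [Ideal.map_ofList, List.map_take]
        rw [e]
        refine h i.1 (by simp) _ ?_
        rw [← e, List.getElem_map, ← map_mul]
        exact Ideal.mem_map_of_mem _ hxK
      obtain ⟨m, hm, hmx⟩ := (IsLocalization.algebraMap_mem_map_algebraMap_iff S Ap J x).1 hmap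
      exact ⟨m, hm, hmx⟩
    choose! s hs hsx using this
    refine ⟨∏ x ∈ gen, s x, Submonoid.prod_mem _ hs, fun x hx => ?_⟩
    have hxK : x ∈ Submodule.span A (gen : Set A) := hgen.ge hx
    induction hxK using Submodule.span_induction with
    | mem y hy =>
      rw [← Finset.prod_erase_mul _ _ hy, mul_assoc]
      exact Ideal.mul_mem_left _ _ (hsx y hy)
    | zero => rw [mul_zero]; exact zero_mem _
    | add a b ha hb iha ihb =>
      rw [mul_add]
      exact add_mem (iha (hgen.le ha)) (ihb (hgen.le hb))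
    | smul c a ha iha =>
      rw [smul_eq_mul, mul_left_comm]
      exact Ideal.mul_mem_left _ _ (iha (hgen.le ha))
  choose s hs hsx using hi
  refine ⟨∏ i, s i, Submonoid.prod_mem _ fun i _ => hs i, fun T B _ _ _ hu => ?_⟩
  rw [isWeaklyRegular_iff_mem]
  intro i hi y hy
  have hi' : i < rs.length := by simpa using hi
  rw [← List.map_take, ← Ideal.map_ofList] at hy ⊢
  obtain ⟨x, t, rfl⟩ := IsLocalization.exists_mk'_eq T y
  rw [List.getElem_map, IsLocalization.mul_mk'_eq_mk'_of_mul, IsLocalization.mk'_mem_map_algebraMap_iff] at hy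
  obtain ⟨m, hm, hmx⟩ := hy
  rw [IsLocalization.mk'_eq_mul_mk'_one]
  refine Ideal.mul_mem_right _ _ ((Ideal.unit_mul_mem_iff_mem _ (hu.mul (IsLocalization.map_units B ⟨m, hm⟩))).1 ?_)
  rw [← map_mul, ← map_mul, mul_assoc,
    ← Finset.prod_erase_mul _ _ (Finset.mem_univ (⟨i, hi'⟩ : Fin rs.length)), mul_assoc]
  refine Ideal.mem_map_of_mem _ (Ideal.mul_mem_left _ _ (hsx ⟨i, hi'⟩ (m * x) ?_))
  rwa [mul_left_comm]

/-- Finitely generated ideals equal at a prime are equal on a principal open around it. -/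
theorem exists_away_eq (S : Submonoid A) (Ap : Type v) [CommRing Ap] [Algebra A Ap]
    [IsLocalization S Ap] (I J : Ideal A) (h : I.map (algebraMap A Ap) = J.map (algebraMap A Ap)) :
    ∃ g ∈ S, ∀ (B : Type u) [CommRing B] [Algebra A B], IsUnit (algebraMap A B g) →
      I.map (algebraMap A B) = J.map (algebraMap A B) := by
  classical
  have key : ∀ I J : Ideal A, I.map (algebraMap A Ap) ≤ J.map (algebraMap A Ap) →
      ∃ g ∈ S, ∀ x ∈ I, g * x ∈ J := by
    intro I J h
    obtain ⟨gen, hgen⟩ := (inferInstance : IsNoetherian A A).noetherian I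
    have : ∀ x ∈ gen, ∃ s ∈ S, s * x ∈ J := fun x hx =>
      (IsLocalization.algebraMap_mem_map_algebraMap_iff S Ap J x).1
        (h (Ideal.mem_map_of_mem _ (hgen.le (Submodule.subset_span hx))))
    choose! s hs hsx using this
    refine ⟨∏ x ∈ gen, s x, Submonoid.prod_mem _ hs, fun x hx => ?_⟩
    have hx' : x ∈ Submodule.span A (gen : Set A) := hgen.ge hx
    have hle : Submodule.span A (gen : Set A) ≤ Submodule.comap (LinearMap.mulLeft A (∏ x ∈ gen, s x)) J := by
      refine Submodule.span_le.2 fun y hy => ?_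
      show (∏ x ∈ gen, s x) * y ∈ J
      rw [← Finset.prod_erase_mul _ _ hy, mul_assoc]
      exact Ideal.mul_mem_left _ _ (hsx y hy)
    exact hle hx'
  obtain ⟨g₁, hg₁, h₁⟩ := key I J h.le
  obtain ⟨g₂, hg₂, h₂⟩ := key J I h.ge
  refine ⟨g₁ * g₂, S.mul_mem hg₁ hg₂, fun B _ _ hu => ?_⟩
  rw [map_mul, IsUnit.mul_iff] at hu
  refine le_antisymm (Ideal.map_le_iff_le_comap.2 fun x hx => ?_) (Ideal.map_le_iff_le_comap.2 fun x hx => ?_)
  · rw [Ideal.mem_comap]
    refine (Ideal.unit_mul_mem_iff_mem _ hu.1).1 ?_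
    rw [← map_mul]
    exact Ideal.mem_map_of_mem _ (h₁ x hx)
  · rw [Ideal.mem_comap]
    refine (Ideal.unit_mul_mem_iff_mem _ hu.2).1 ?_
    rw [← map_mul]
    exact Ideal.mem_map_of_mem _ (h₂ x hx)

end GrothLib.RegSeqLoc
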