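import Groth.Agent.Lib.RegSeqLoc.BaseChange
import Groth.Agent.Lib.SeqKinds.BaseChange
import Mathlib.AlgebraicGeometry.Morphisms.Flat

/-!
# Equations of immersions after an arbitrary base change
-/

set_option autoImplicit false
set_option linter.all false
universe u

open CategoryTheory Limits AlgebraicGeometry TopologicalSpace

namespace GrothLib.RegSeqLoc

variable {X Y X' Y' : Scheme.{u}}

theorem ker_congr (i : Y ⟶ X) {U U' : X.Opens} (e : U' = U) :
    RingHom.ker (i.app U').hom =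
      (RingHom.ker (i.app U).hom).map (X.presheaf.map (eqToHom e).op).hom := by
  subst e
  simp

/-- Over affine opens the ideal of a base change is the extension of the ideal. -/
theorem ker_of_isPullback {i : Y ⟶ X} {g : X' ⟶ X} {i' : Y' ⟶ X'} {g' : Y' ⟶ Y}
    (hsq : IsPullback g' i' i g) (U : X.affineOpens) (hci : IsClosedImmersion (i ∣_ U.1))
    {V : X'.Opens} (hV : IsAffineOpen V) (e : V ≤ g ⁻¹ᵁ U.1) :
    IsClosedImmersion (i' ∣_ V) ∧
      RingHom.ker (i'.app V).hom = (RingHom.ker (i.app U.1).hom).map (g.appLE U.1 V e).hom := by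
  let h : V.toScheme ⟶ U.1.toScheme := g.resLE U.1 V e
  have hWle : i' ⁻¹ᵁ V ≤ g' ⁻¹ᵁ (i ⁻¹ᵁ U.1) := fun a ha => by
    show i (g' a) ∈ U.1
    rw [← Scheme.Hom.comp_apply, hsq.w]; exact e ha
  let k : (i' ⁻¹ᵁ V).toScheme ⟶ (i ⁻¹ᵁ U.1).toScheme := g'.resLE (i ⁻¹ᵁ U.1) (i' ⁻¹ᵁ V) hWle
  have hk : k ≫ (i ⁻¹ᵁ U.1).ι = (i' ⁻¹ᵁ V).ι ≫ g' := Scheme.Hom.resLE_comp_ι g' hWle
  have hh : h ≫ U.1.ι = V.ι ≫ g := Scheme.Hom.resLE_comp_ι g e
  have hbig : IsPullback (k ≫ (i ⁻¹ᵁ U.1).ι) (i' ∣_ V) i (h ≫ U.1.ι) := by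
    rw [hk, hh]
    exact (isPullback_morphismRestrict i' V).flip.paste_horiz hsq
  have hsmall : IsPullback k (i' ∣_ V) (i ∣_ U.1) h := by
    refine IsPullback.of_right hbig ?_ (isPullback_morphismRestrict i U.1).flip
    rw [← cancel_mono U.1.ι, Category.assoc, Category.assoc, morphismRestrict_ι, hh, ← Category.assoc k, hk,
      Category.assoc, hsq.w, morphismRestrict_ι_assoc]
  haveI := hci
  haveI : IsClosedImmersion (i' ∣_ V) := MorphismProperty.of_isPullback hsmall hci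
  refine ⟨inferInstance, ?_⟩
  have hker : (i' ∣_ V).ker = (i ∣_ U.1).ker.comap h := by
    rw [← Scheme.IdealSheafData.ker_fst_of_isClosedImmersion, ← hsmall.flip.isoPullback_hom_fst,
      Scheme.Hom.ker_comp_of_isIso]
  haveI : IsAffine U.1.toScheme := U.2
  haveI : IsAffine V.toScheme := hV
  have E := GrothLib.BlowUp.ideal_comap_eq_map (i ∣_ U.1).ker h ⟨⊤, isAffineOpen_top _⟩
    ⟨⊤, isAffineOpen_top _⟩ le_top
  rw [← hker, Scheme.Hom.ker_apply, Scheme.Hom.ker_apply, ker_app_morphismRestrict,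
    ker_app_morphismRestrict] at E
  have hVim := Scheme.Opens.ι_image_top V
  have hUim := Scheme.Opens.ι_image_top U.1
  rw [ker_congr i' hVim, ker_congr i hUim] at E
  have e2 : X.presheaf.map (eqToHom hUim).op ≫ (g.resLE U.1 V e).appLE ⊤ ⊤ (by simp) =
      g.appLE U.1 V e ≫ X'.presheaf.map (eqToHom hVim).op := by
    refine (congrArg (X.presheaf.map (eqToHom hUim).op ≫ ·)
      (Scheme.Hom.resLE_appLE g e ⊤ ⊤ (le_top : (⊤ : V.toScheme.Opens) ≤ _))).trans ?_
    erw [Scheme.Hom.map_appLE, Scheme.Hom.appLE_map]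
  have E₂ : (RingHom.ker (i'.app V).hom).map (X'.presheaf.map (eqToHom hVim).op).hom =
      ((RingHom.ker (i.app U.1).hom).map (g.appLE U.1 V e).hom).map
        (X'.presheaf.map (eqToHom hVim).op).hom := by
    refine E.trans ?_
    rw [Ideal.map_map]
    refine (Ideal.map_map _ _).trans ?_
    exact congrArg (fun q : Γ(X, U.1) ⟶ Γ(X', V.ι ''ᵁ ⊤) => Ideal.map q.hom (RingHom.ker (i.app U.1).hom)) e2
  have hbij : Function.Bijective (X'.presheaf.map (eqToHom hVim).op).hom :=
    ConcreteCategory.bijective_of_isIso _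
  have := congrArg (Ideal.comap (X'.presheaf.map (eqToHom hVim).op).hom) E₂
  rwa [Ideal.comap_map_of_bijective _ hbij, Ideal.comap_map_of_bijective _ hbij] at this

/-- Sections over an affine open on which the morphism is a closed immersion: surjective, affine preimage. -/
theorem app_surjective_of_restrict (i : Y ⟶ X) {U : X.Opens} (hU : IsAffineOpen U)
    (hci : IsClosedImmersion (i ∣_ U)) :
    Function.Surjective (i.app U).hom ∧ IsAffineOpen (i ⁻¹ᵁ U) := by
  haveI := hci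
  haveI : IsAffine U.toScheme := hU
  refine ⟨?_, isAffine_of_isAffineHom (i ∣_ U)⟩
  have h3 := (i ∣_ U).app_surjective ⊤ (isAffineOpen_top _)
  have e1 : U.ι ''ᵁ ⊤ = U := Scheme.Opens.ι_image_top U
  have h4 : Function.Surjective (i.app (U.ι ''ᵁ ⊤)).hom := by
    rw [morphismRestrict_app'] at h3
    intro b
    have e2 := image_morphismRestrict_preimage i U ⊤
    obtain ⟨a, ha⟩ := h3 (Y.presheaf.map (homOfLE e2.le).op b)
    refine ⟨a, ?_⟩
    haveI : IsIso (homOfLE e2.le) := ⟨homOfLE e2.ge, Subsingleton.elim _ _, Subsingleton.elim _ _⟩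
    exact (ConcreteCategory.bijective_of_isIso (Y.presheaf.map (homOfLE e2.le).op)).1 ha
  exact e1 ▸ h4

end GrothLib.RegSeqLoc
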