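import Groth.Agent.Lib.RegSeqLoc.Scheme
import Mathlib.AlgebraicGeometry.Morphisms.Immersion

/-!
# Regular immersions: passing to open neighbourhoods
-/

universe u

open CategoryTheory AlgebraicGeometry RingTheory.Sequence TopologicalSpace

namespace GrothLib.RegSeqLoc

variable {X Z : Scheme.{u}}

/-- The kernel of a restricted morphism on an open. -/
theorem ker_app_morphismRestrict (i : Z ⟶ X) (V : X.Opens) (W : V.toScheme.Opens) :
    RingHom.ker ((i ∣_ V).app W).hom = (RingHom.ker (i.app (V.ι ''ᵁ W)).hom : Ideal Γ(X, V.ι ''ᵁ W)) := by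
  have e := image_morphismRestrict_preimage i V W
  refine Ideal.ext fun (a : Γ(X, V.ι ''ᵁ W)) => ?_
  change (i ∣_ V).app W a = 0 ↔ i.app (V.ι ''ᵁ W) a = 0
  rw [morphismRestrict_app']
  change Z.presheaf.map (homOfLE e.le).op (i.app (V.ι ''ᵁ W) a) = 0 ↔ _
  constructor
  · intro h
    have := congrArg (Z.presheaf.map (homOfLE e.ge).op) h
    rw [map_zero, ← CommRingCat.comp_apply, ← Functor.map_comp, ← op_comp] at this
    simpa using this
  · intro h
    exact (congrArg _ h).trans (map_zero _)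

/-- The data of a regular sequence generating the ideal of `i` over an open, moved along an equality. -/
theorem exists_rs_congr (i : Z ⟶ X) {U U' : X.Opens} (e : U' = U) {P : ∀ (W : X.Opens), List Γ(X, W) → Prop}
    (h : ∃ rs : List Γ(X, U), P U rs ∧ RingHom.ker (i.app U).hom = Ideal.ofList rs) :
    ∃ rs : List Γ(X, U'), P U' rs ∧ RingHom.ker (i.app U').hom = Ideal.ofList rs := by
  subst e; exact h

/-- A closed immersion is regular over an affine neighbourhood iff over some open neighbourhood. -/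
theorem exists_open_iff (i : Z ⟶ X) [IsClosedImmersion i] (z : Z) :
    (∃ V : X.Opens, i z ∈ V ∧ Mor2.IsRegularClosedImmersion (i ∣_ V)) ↔
      ∃ U : X.affineOpens, i z ∈ U.1 ∧ ∃ rs : List Γ(X, U.1), IsRegular Γ(X, U.1) rs ∧
        i.ker.ideal U = Ideal.ofList rs := by
  constructor
  · rintro ⟨V, hzV, hci, hreg⟩
    obtain ⟨W, hW, hzW, rs, hr, hI⟩ := hreg ⟨z, hzV⟩
    refine ⟨⟨V.ι ''ᵁ W, hW.image_of_isOpenImmersion V.ι⟩, ⟨_, hzW, ?_⟩, rs, hr, ?_⟩
    · exact congrArg (fun f : (i ⁻¹ᵁ V).toScheme ⟶ X => f ⟨z, hzV⟩) (morphismRestrict_ι i V)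
    · rw [Scheme.Hom.ker_apply] at hI
      rw [Scheme.Hom.ker_apply, ← ker_app_morphismRestrict]
      exact hI
  · rintro ⟨U, hzU, rs, hr, hI⟩
    have hci : IsClosedImmersion (i ∣_ U.1) := IsZariskiLocalAtTarget.restrict ‹_› U.1
    refine ⟨U.1, hzU, hci, fun z' => ⟨⊤, isAffineOpen_top _, trivial, ?_⟩⟩
    have e : U.1.ι ''ᵁ ⊤ = U.1 := Scheme.Opens.ι_image_top U.1
    have : IsAffine U.1.toScheme := U.2
    rw [Scheme.Hom.ker_apply] at hI
    obtain ⟨rs', hr', hI'⟩ := exists_rs_congr i e (P := fun W rs => IsRegular Γ(X, W) rs) ⟨rs, hr, hI⟩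
    refine ⟨rs', hr', ?_⟩
    rw [Scheme.Hom.ker_apply, ker_app_morphismRestrict]
    exact hI'

/-- An immersion is a closed immersion over a neighbourhood of each of its points. -/
theorem exists_affine_isClosedImmersion (i : Z ⟶ X) [IsImmersion i] (z : Z) :
    ∃ U : X.affineOpens, i z ∈ U.1 ∧ IsClosedImmersion (i ∣_ U.1) := by
  let W := i.coborderRange
  have hzW : i z ∈ W := subset_coborder ⟨z, rfl⟩
  have htop : i ⁻¹ᵁ W = ⊤ := top_le_iff.1 fun y _ => subset_coborder ⟨y, rfl⟩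
  have hW : IsClosedImmersion (i ∣_ W) := by
    have e : i ∣_ W = (i ⁻¹ᵁ W).ι ≫ i.liftCoborder := by
      rw [← cancel_mono W.ι, morphismRestrict_ι, Category.assoc]
      exact congrArg _ i.liftCoborder_ι.symm
    rw [e]
    have : IsIso (i ⁻¹ᵁ W).ι := by rw [htop]; exact inferInstanceAs (IsIso Z.topIso.hom)
    infer_instance
  obtain ⟨U, hU, hzU, hUW⟩ := Opens.isBasis_iff_nbhd.1 X.isBasis_affineOpens hzW
  refine ⟨⟨U, hU⟩, hzU, ?_⟩
  have h2 : IsClosedImmersion ((i ∣_ W) ∣_ (W.ι ⁻¹ᵁ U)) := IsZariskiLocalAtTarget.restrict hW _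
  rw [MorphismProperty.arrow_mk_iso_iff @IsClosedImmersion (morphismRestrictRestrict i W _)] at h2
  have e2 : W.ι ''ᵁ (W.ι ⁻¹ᵁ U) = U := by
    rw [Scheme.Hom.image_preimage_eq_opensRange_inf, Scheme.Opens.opensRange_ι]
    exact inf_eq_right.2 hUW
  rwa [MorphismProperty.arrow_mk_iso_iff @IsClosedImmersion (morphismRestrictEq i e2)] at h2

/-- Regularity at a point from regularity of the restriction to an affine neighbourhood. -/
theorem isRegularImmersionAt_of_restrict (i : Z ⟶ X) (z : Z) (U₀ : X.Opens) (hz : i z ∈ U₀)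
    [IsClosedImmersion (i ∣_ U₀)]
    (h : ∃ U : U₀.toScheme.affineOpens, (i ∣_ U₀) ⟨z, hz⟩ ∈ U.1 ∧ ∃ rs : List Γ(U₀.toScheme, U.1),
      IsRegular Γ(U₀.toScheme, U.1) rs ∧ (i ∣_ U₀).ker.ideal U = Ideal.ofList rs) :
    RegImm.IsRegularImmersionAt RegImm.Kind.regular i z := by
  obtain ⟨U, hzU, rs, hr, hI⟩ := h
  refine ⟨⟨U₀.ι ''ᵁ U.1, U.2.image_of_isOpenImmersion U₀.ι⟩, ⟨_, hzU, ?_⟩, ?_, rs, hr, ?_⟩
  · exact congrArg (fun f : (i ⁻¹ᵁ U₀).toScheme ⟶ X => f ⟨z, hz⟩) (morphismRestrict_ι i U₀)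
  · have h2 : IsClosedImmersion ((i ∣_ U₀) ∣_ U.1) := IsZariskiLocalAtTarget.restrict ‹_› _
    rwa [MorphismProperty.arrow_mk_iso_iff @IsClosedImmersion (morphismRestrictRestrict i U₀ _)] at h2
  · rw [Scheme.Hom.ker_apply] at hI
    rw [← ker_app_morphismRestrict]
    exact hI

end GrothLib.RegSeqLoc
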