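import Groth.Prelude.Def_RegImm
import Groth.Prelude.Def_Mor2
import Groth.Agent.Lib.RegSeqLoc.Basic
import Groth.Agent.Lib.RegularIdeal
import Groth.Agent.Lib.RegLoc.Basic

/-!
# Regular immersions through local rings
-/

universe u

open CategoryTheory AlgebraicGeometry RingTheory.Sequence

namespace GrothLib.RegSeqLoc

variable {X Z : Scheme.{u}}

/-- For a closed immersion the kernel of the stalk map is the extension of the ideal. -/
lemma ker_stalkMap (j : Z ⟶ X) [IsClosedImmersion j] (d : Z) (V : X.affineOpens) (hd : j d ∈ V.1) :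
    RingHom.ker (j.stalkMap d).hom = (j.ker.ideal V).map (X.presheaf.germ V.1 (j d) hd).hom := by
  rw [Scheme.Hom.ker_apply]
  refine le_antisymm (fun r hr => ?_) ?_
  · let algX : Algebra Γ(X, V.1) (X.presheaf.stalk (j d)) :=
      TopCat.Presheaf.algebra_section_stalk X.presheaf (⟨j d, hd⟩ : V.1)
    have hlocX : IsLocalization.AtPrime (X.presheaf.stalk (j d))
        (V.2.primeIdealOf ⟨j d, hd⟩).asIdeal := V.2.isLocalization_stalk ⟨j d, hd⟩
    have hW : IsAffineOpen (j ⁻¹ᵁ V.1) := V.2.preimage j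
    let algZ : Algebra Γ(Z, j ⁻¹ᵁ V.1) (Z.presheaf.stalk d) :=
      TopCat.Presheaf.algebra_section_stalk Z.presheaf (⟨d, hd⟩ : (j ⁻¹ᵁ V.1 : Z.Opens))
    have hlocZ : IsLocalization.AtPrime (Z.presheaf.stalk d)
        (hW.primeIdealOf ⟨d, hd⟩).asIdeal := hW.isLocalization_stalk ⟨d, hd⟩
    obtain ⟨a, s, rfl⟩ := IsLocalization.exists_mk'_eq
      (V.2.primeIdealOf ⟨j d, hd⟩).asIdeal.primeCompl r
    rw [RingHom.mem_ker] at hr
    have ha0 : (j.stalkMap d).hom (X.presheaf.germ V.1 _ hd a) = 0 := by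
      have := congrArg (j.stalkMap d).hom (IsLocalization.mk'_spec (X.presheaf.stalk (j d)) a s)
      rw [map_mul, hr, zero_mul] at this
      exact this.symm
    have ha : Z.presheaf.germ (j ⁻¹ᵁ V.1) d hd (j.app V.1 a) = 0 := by
      rw [← Scheme.Hom.germ_stalkMap_apply]
      exact ha0
    obtain ⟨⟨t, ht⟩, hta⟩ := (IsLocalization.map_eq_zero_iff (hW.primeIdealOf ⟨d, hd⟩).asIdeal.primeCompl
      (Z.presheaf.stalk d) (j.app V.1 a)).mp ha
    obtain ⟨t', rfl⟩ := j.app_surjective V.1 V.2 t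
    have hmem : t' * a ∈ RingHom.ker (j.app V.1).hom := by
      rw [RingHom.mem_ker, map_mul]
      exact hta
    have hu : IsUnit (X.presheaf.germ V.1 _ hd t') := by
      apply (isUnit_map_iff (j.stalkMap d).hom _).mp
      have h1 := IsLocalization.map_units (Z.presheaf.stalk d)
        (⟨_, ht⟩ : (hW.primeIdealOf ⟨d, hd⟩).asIdeal.primeCompl)
      erw [Scheme.Hom.germ_stalkMap_apply]
      exact h1
    rw [IsLocalization.mk'_eq_mul_mk'_one]
    refine Ideal.mul_mem_right _ _ ?_
    refine (Ideal.unit_mul_mem_iff_mem _ hu).mp ?_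
    have := Ideal.mem_map_of_mem (X.presheaf.germ V.1 (j d) hd).hom hmem
    rwa [map_mul] at this
  · rw [Ideal.map_le_iff_le_comap]
    intro a ha
    rw [RingHom.mem_ker] at ha
    rw [Ideal.mem_comap, RingHom.mem_ker]
    erw [Scheme.Hom.germ_stalkMap_apply, ha, map_zero]

/-- A regular sequence generating an ideal at a point does so on a principal open around it. -/
theorem exists_basicOpen_isRegular {U : X.Opens} (hU : IsAffineOpen U) [IsNoetherianRing Γ(X, U)] {x : X}
    (hx : x ∈ U) (I : Ideal Γ(X, U)) (rs : List (X.presheaf.stalk x))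
    (hreg : IsRegular (X.presheaf.stalk x) rs)
    (hI : I.map (X.presheaf.germ U x hx).hom = Ideal.ofList rs) :
    ∃ g : Γ(X, U), x ∈ X.basicOpen g ∧ ∃ rs' : List Γ(X, X.basicOpen g),
      IsRegular Γ(X, X.basicOpen g) rs' ∧
        I.map (X.presheaf.map (homOfLE (X.basicOpen_le g)).op).hom = Ideal.ofList rs' := by
  classical
  let algX : Algebra Γ(X, U) (X.presheaf.stalk x) :=
    TopCat.Presheaf.algebra_section_stalk X.presheaf (⟨x, hx⟩ : U)
  let p := (hU.primeIdealOf ⟨x, hx⟩).asIdeal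
  have hloc : IsLocalization.AtPrime (X.presheaf.stalk x) p := hU.isLocalization_stalk ⟨x, hx⟩
  choose as hs using fun i : Fin rs.length => IsLocalization.surj p.primeCompl (rs.get i)
  let a : Fin rs.length → Γ(X, U) := fun i => (as i).1
  let u : Fin rs.length → X.presheaf.stalk x := fun i => algebraMap Γ(X, U) _ (as i).2.1
  have hu : ∀ i, IsUnit (u i) := fun i => IsLocalization.map_units _ (as i).2
  have hmap : (List.ofFn a).map (algebraMap Γ(X, U) (X.presheaf.stalk x)) =
      List.ofFn fun i => u i * rs.get i := by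
    rw [List.map_ofFn]
    congr 1
    funext i
    exact (hs i).symm.trans (mul_comm _ _)
  have hw : IsWeaklyRegular (X.presheaf.stalk x) ((List.ofFn a).map (algebraMap Γ(X, U) (X.presheaf.stalk x))) := by
    rw [hmap]
    refine isWeaklyRegular_ofFn_mul u hu ?_
    rw [List.ofFn_get]
    exact hreg.toIsWeaklyRegular
  have hideal : Ideal.ofList ((List.ofFn a).map (algebraMap Γ(X, U) (X.presheaf.stalk x))) = Ideal.ofList rs := by
    rw [hmap]
    have := ofList_take_ofFn_mul u hu rs.get rs.length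
    rwa [List.take_of_length_le (by simp), List.take_of_length_le (by simp), List.ofFn_get] at this
  obtain ⟨g₁, hg₁, h₁⟩ := exists_away_isWeaklyRegular p.primeCompl (X.presheaf.stalk x) (List.ofFn a) hw
  obtain ⟨g₂, hg₂, h₂⟩ := exists_away_eq p.primeCompl (X.presheaf.stalk x) I (Ideal.ofList (List.ofFn a))
    (by rw [Ideal.map_ofList, hideal]; exact hI)
  have hxg : x ∈ X.basicOpen (g₁ * g₂) :=
    (Scheme.mem_basicOpen _ _ x hx).2 (IsLocalization.map_units (X.presheaf.stalk x)
      (⟨g₁ * g₂, mul_mem hg₁ hg₂⟩ : p.primeCompl))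
  let B := Γ(X, X.basicOpen (g₁ * g₂))
  let _ : Algebra Γ(X, U) B := (X.presheaf.map (homOfLE (X.basicOpen_le (g₁ * g₂))).op).hom.toAlgebra
  have : IsLocalization.Away (g₁ * g₂) B := hU.isLocalization_basicOpen _
  have hug : IsUnit (algebraMap Γ(X, U) B (g₁ * g₂)) := IsLocalization.Away.algebraMap_isUnit _
  rw [map_mul, IsUnit.mul_iff] at hug
  have hmapB : I.map (algebraMap Γ(X, U) B) = Ideal.ofList ((List.ofFn a).map (algebraMap Γ(X, U) B)) := by
    rw [h₂ B hug.2, Ideal.map_ofList]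
  refine ⟨g₁ * g₂, hxg, (List.ofFn a).map (algebraMap Γ(X, U) B),
    ⟨h₁ (Submonoid.powers (g₁ * g₂)) B hug.1, fun htop => ?_⟩, hmapB⟩
  rw [smul_eq_mul, Ideal.mul_top] at htop
  have h3 := congrArg (Ideal.map (X.presheaf.germ (X.basicOpen (g₁ * g₂)) x hxg).hom) htop
  rw [Ideal.map_top, ← hmapB, Ideal.map_map] at h3
  have hcomp : (X.presheaf.germ (X.basicOpen (g₁ * g₂)) x hxg).hom.comp (algebraMap Γ(X, U) B) =
      (X.presheaf.germ U x hx).hom :=
    RingHom.ext fun t => TopCat.Presheaf.germ_res_apply X.presheaf _ x hxg t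
  rw [hcomp, hI] at h3
  exact hreg.top_ne_smul (by rw [smul_eq_mul, Ideal.mul_top]; exact h3)

/-- A regular sequence on an affine open stays regular in the local ring at a point of its zero locus. -/
theorem isRegular_stalk {U : X.Opens} (hU : IsAffineOpen U) {x : X} (hx : x ∈ U) {rs : List Γ(X, U)}
    (hreg : IsWeaklyRegular Γ(X, U) rs)
    (hle : Ideal.ofList (rs.map (X.presheaf.germ U x hx).hom) ≤ IsLocalRing.maximalIdeal _) :
    IsRegular (X.presheaf.stalk x) (rs.map (X.presheaf.germ U x hx).hom) := by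
  let algX : Algebra Γ(X, U) (X.presheaf.stalk x) :=
    TopCat.Presheaf.algebra_section_stalk X.presheaf (⟨x, hx⟩ : U)
  have hloc : IsLocalization.AtPrime (X.presheaf.stalk x) (hU.primeIdealOf ⟨x, hx⟩).asIdeal :=
    hU.isLocalization_stalk ⟨x, hx⟩
  exact GrothLib.RegularIdeal.isRegular_of_le (IsWeaklyRegular.of_isLocalization
    (S := X.presheaf.stalk x) (hU.primeIdealOf ⟨x, hx⟩).asIdeal.primeCompl hreg) hle

/-- Regularity of a closed immersion at a point, read on the local ring. -/
theorem exists_affine_iff [IsLocallyNoetherian X] (j : Z ⟶ X) [IsClosedImmersion j] (z : Z) :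
    (∃ U : X.affineOpens, j z ∈ U.1 ∧ ∃ rs : List Γ(X, U.1), IsRegular Γ(X, U.1) rs ∧
        j.ker.ideal U = Ideal.ofList rs) ↔
      ∃ rs : List (X.presheaf.stalk (j z)), IsRegular (X.presheaf.stalk (j z)) rs ∧
        RingHom.ker (j.stalkMap z).hom = Ideal.ofList rs := by
  constructor
  · rintro ⟨U, hz, rs, hreg, hI⟩
    have hk := ker_stalkMap j z U hz
    rw [hI, Ideal.map_ofList] at hk
    exact ⟨_, isRegular_stalk U.2 hz hreg.toIsWeaklyRegular (hk.symm.le.trans
      (IsLocalRing.le_maximalIdeal (RingHom.ker_ne_top _))), hk⟩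
  · rintro ⟨rs, hreg, hk⟩
    obtain ⟨U, hU, hzU, -⟩ := TopologicalSpace.Opens.isBasis_iff_nbhd.1 X.isBasis_affineOpens (TopologicalSpace.Opens.mem_top (j z))
    have := IsLocallyNoetherian.component_noetherian (X := X) ⟨U, hU⟩
    rw [ker_stalkMap j z ⟨U, hU⟩ hzU] at hk
    obtain ⟨g, hzg, rs', hreg', hI'⟩ := exists_basicOpen_isRegular hU hzU _ rs hreg hk
    exact ⟨⟨X.basicOpen g, hU.basicOpen g⟩, hzg, rs', hreg',
      (j.ker.map_ideal (U := ⟨X.basicOpen g, hU.basicOpen g⟩) (V := ⟨U, hU⟩) (X.basicOpen_le g)).symm.trans hI'⟩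

/-- A regular quotient of a regular local ring is cut out by a regular sequence. -/
theorem exists_isRegular_ker {R T : Type u} [CommRing R] [IsRegularLocalRing R] [CommRing T]
    [IsRegularLocalRing T] (f : R →+* T) (hf : Function.Surjective f) :
    ∃ rs : List R, IsRegular R rs ∧ RingHom.ker f = Ideal.ofList rs := by
  have : IsRegularLocalRing (R ⧸ RingHom.ker f) :=
    IsRegularLocalRing.of_ringEquiv (RingHom.quotientKerEquivOfSurjective hf).symm
  obtain ⟨x, c, hc, hmax, hI, -⟩ := GrothLib.RegLoc.exists_generators_quotient _ R rfl (RingHom.ker f)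
  have hd : ringKrullDim R = ((IsLocalRing.maximalIdeal R).spanFinrank : ℕ) :=
    IsRegularLocalRing.spanFinrank_maximalIdeal.symm
  have hfull := (GrothLib.RegLoc.isRegular_ofFn _ hd x hmax).toIsWeaklyRegular
  have heq : List.ofFn (fun i : Fin c => x (Fin.castLE hc i)) = (List.ofFn x).take c := by
    refine List.ext_getElem (by simp [hc]) fun i h1 h2 => ?_
    simp
  have hw : IsWeaklyRegular R (List.ofFn (fun i : Fin c => x (Fin.castLE hc i))) := by
    rw [heq]
    rw [← List.take_append_drop c (List.ofFn x), isWeaklyRegular_append_iff] at hfull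
    exact hfull.1
  have hI' : RingHom.ker f = Ideal.ofList (List.ofFn (fun i : Fin c => x (Fin.castLE hc i))) := by
    rw [hI, Ideal.ofList]
    congr 1
    ext y
    simp [List.mem_ofFn, eq_comm]
  exact ⟨_, GrothLib.RegularIdeal.isRegular_of_le hw
    (hI' ▸ IsLocalRing.le_maximalIdeal (RingHom.ker_ne_top f)), hI'⟩

end GrothLib.RegSeqLoc
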