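import Groth.Agent.Lib.RegSeqLoc.Immersion
import Groth.Agent.Lib.BlowUp.IdealComap
import Groth.Agent.Lib.KoszulColon.BaseChange
import Mathlib.AlgebraicGeometry.Morphisms.Flat
import Mathlib.RingTheory.Regular.Flat

/-!
# Flat base change of regular immersions
-/

universe u

open CategoryTheory Limits AlgebraicGeometry RingTheory.Sequence TopologicalSpace

namespace GrothLib.RegSeqLoc

variable {X Y X' Y' : Scheme.{u}}

/-- The equations of an immersion over an affine open, pulled back along a flat map, cut out the base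
change near each of its points over that open. -/
theorem exists_equations_of_isPullback {i : Y ⟶ X} {g : X' ⟶ X} [Flat g] {i' : Y' ⟶ X'} {g' : Y' ⟶ Y}
    (hsq : IsPullback g' i' i g) (U : X.affineOpens) (hci : IsClosedImmersion (i ∣_ U.1))
    (rs : List Γ(X, U.1)) (hI : RingHom.ker (i.app U.1).hom = Ideal.ofList rs)
    (P : ∀ (R : Type u) [CommRing R], List R → Prop)
    (hP : ∀ (R S : Type u) [CommRing R] [CommRing S] (φ : R →+* S) (l : List R), φ.Flat → P R l →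
      Ideal.ofList (l.map φ) ≠ ⊤ → P S (l.map φ))
    (hrs : P Γ(X, U.1) rs) (y' : Y') (hy : i (g' y') ∈ U.1) :
    ∃ V : X'.affineOpens, i' y' ∈ V.1 ∧ IsClosedImmersion (i' ∣_ V.1) ∧
      ∃ ss : List Γ(X', V.1), P Γ(X', V.1) ss ∧ RingHom.ker (i'.app V.1).hom = Ideal.ofList ss := by
  have hmem : i' y' ∈ g ⁻¹ᵁ U.1 := by
    show g (i' y') ∈ U.1
    rw [← Scheme.Hom.comp_apply, ← hsq.w]; exact hy
  obtain ⟨V, hV, hzV, hVU⟩ : ∃ V : X'.Opens, IsAffineOpen V ∧ i' y' ∈ V ∧ V ≤ g ⁻¹ᵁ U.1 := by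
    obtain ⟨_, ⟨V, hV, rfl⟩, hzV, hVU⟩ :=
      X'.isBasis_affineOpens.exists_subset_of_mem_open hmem (g ⁻¹ᵁ U.1).2
    exact ⟨V, hV, hzV, hVU⟩
  let h : V.toScheme ⟶ U.1.toScheme := g.resLE U.1 V hVU
  have hWle : i' ⁻¹ᵁ V ≤ g' ⁻¹ᵁ (i ⁻¹ᵁ U.1) := fun a ha => by
    show i (g' a) ∈ U.1
    rw [← Scheme.Hom.comp_apply, hsq.w]; exact hVU ha
  let k : (i' ⁻¹ᵁ V).toScheme ⟶ (i ⁻¹ᵁ U.1).toScheme := g'.resLE (i ⁻¹ᵁ U.1) (i' ⁻¹ᵁ V) hWle
  have hk : k ≫ (i ⁻¹ᵁ U.1).ι = (i' ⁻¹ᵁ V).ι ≫ g' := Scheme.Hom.resLE_comp_ι g' hWle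
  have hh : h ≫ U.1.ι = V.ι ≫ g := Scheme.Hom.resLE_comp_ι g hVU
  have hbig : IsPullback (k ≫ (i ⁻¹ᵁ U.1).ι) (i' ∣_ V) i (h ≫ U.1.ι) := by
    rw [hk, hh]
    exact (isPullback_morphismRestrict i' V).flip.paste_horiz hsq
  have hsmall : IsPullback k (i' ∣_ V) (i ∣_ U.1) h := by
    refine IsPullback.of_right hbig ?_ (isPullback_morphismRestrict i U.1).flip
    rw [← cancel_mono U.1.ι, Category.assoc, Category.assoc, morphismRestrict_ι, hh, ← Category.assoc k, hk,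
      Category.assoc, hsq.w, morphismRestrict_ι_assoc]
  haveI := hci
  haveI : IsClosedImmersion (i' ∣_ V) := MorphismProperty.of_isPullback hsmall hci
  have hker : (i' ∣_ V).ker = (i ∣_ U.1).ker.comap h := by
    rw [← Scheme.IdealSheafData.ker_fst_of_isClosedImmersion, ← hsmall.flip.isoPullback_hom_fst,
      Scheme.Hom.ker_comp_of_isIso]
  haveI : IsAffine U.1.toScheme := U.2
  haveI : IsAffine V.toScheme := hV
  obtain ⟨rs', hP', hI'⟩ := exists_rs_congr i (Scheme.Opens.ι_image_top U.1)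
    (P := fun W l => P Γ(X, W) l) ⟨rs, hrs, hI⟩
  have hker' : RingHom.ker ((i' ∣_ V).app ⊤).hom = Ideal.ofList (rs'.map (h.appLE ⊤ ⊤ le_top).hom) := by
    have e := GrothLib.BlowUp.ideal_comap_eq_map (i ∣_ U.1).ker h ⟨⊤, isAffineOpen_top _⟩
      ⟨⊤, isAffineOpen_top _⟩ le_top
    rw [← hker, Scheme.Hom.ker_apply, Scheme.Hom.ker_apply] at e
    rw [e, ker_app_morphismRestrict]
    erw [hI']
    exact Ideal.map_ofList _ _
  have hflat : (h.appLE ⊤ ⊤ le_top).hom.Flat := by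
    haveI : Flat h := inferInstance
    exact HasRingHomProperty.appLE (P := @Flat) h ‹_› ⟨⊤, isAffineOpen_top _⟩ ⟨⊤, isAffineOpen_top _⟩ le_top
  have hne : Ideal.ofList (rs'.map (h.appLE ⊤ ⊤ le_top).hom) ≠ ⊤ := by
    rw [← hker']
    haveI : Nonempty ((i' ∣_ V) ⁻¹ᵁ (⊤ : V.toScheme.Opens)) := ⟨⟨⟨y', hzV⟩, trivial⟩⟩
    exact RingHom.ker_ne_top _
  obtain ⟨ss, hss, hIss⟩ := exists_rs_congr i' (Scheme.Opens.ι_image_top V).symm
    (P := fun W l => P Γ(X', W) l) ⟨_, hP _ _ _ rs' hflat hP' hne, by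
      rw [ker_app_morphismRestrict] at hker'
      exact hker'⟩
  exact ⟨⟨V, hV⟩, hzV, inferInstance, ss, hss, hIss⟩

end GrothLib.RegSeqLoc
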