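import Groth.Agent.Lib.RegSeqLoc.Immersion
import Groth.Agent.Lib.KoszulColon.Append
import Groth.Agent.Lib.KoszulColon.BaseChange
import Mathlib.AlgebraicGeometry.Morphisms.Flat
import Mathlib.AlgebraicGeometry.Morphisms.ClosedImmersion

/-!
# Shrinking the chart of a regular immersion; composites of Koszul regular immersions
-/

universe u

open CategoryTheory Limits AlgebraicGeometry TopologicalSpace

namespace GrothLib.RegSeqLoc

variable {X Y Z : Scheme.{u}}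

theorem flat_res {U U' : X.Opens} (hU : IsAffineOpen U) (hU' : IsAffineOpen U') (h : U' ≤ U) :
    (X.presheaf.map (homOfLE h).op).hom.Flat := by
  have := HasRingHomProperty.appLE (P := @Flat) (𝟙 X) inferInstance ⟨U, hU⟩ ⟨U', hU'⟩ h
  rw [Scheme.Hom.appLE, Scheme.Hom.id_app] at this
  erw [Category.id_comp] at this
  exact this

/-- Equations of an immersion restricted to a smaller affine open. -/
theorem exists_shrink (i : Y ⟶ X) (U : X.affineOpens) (hci : IsClosedImmersion (i ∣_ U.1))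
    (rs : List Γ(X, U.1)) (hI : RingHom.ker (i.app U.1).hom = Ideal.ofList rs)
    (hK : LCI.IsKoszulRegularSeq Γ(X, U.1) rs) (U' : X.affineOpens) (h : U'.1 ≤ U.1) :
    IsClosedImmersion (i ∣_ U'.1) ∧ Function.Surjective (i.app U'.1).hom ∧ IsAffineOpen (i ⁻¹ᵁ U'.1) ∧
      ∃ ss : List Γ(X, U'.1), ss.length = rs.length ∧ LCI.IsKoszulRegularSeq Γ(X, U'.1) ss ∧
        RingHom.ker (i.app U'.1).hom = Ideal.ofList ss := by
  haveI : IsAffine U.1.toScheme := U.2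
  let W : U.1.toScheme.Opens := U.1.ι ⁻¹ᵁ U'.1
  have e : U.1.ι ''ᵁ W = U'.1 := by
    rw [Scheme.Hom.image_preimage_eq_opensRange_inf, Scheme.Opens.opensRange_ι]
    exact inf_eq_right.2 h
  have hci' : IsClosedImmersion (i ∣_ U'.1) := by
    have h2 : IsClosedImmersion ((i ∣_ U.1) ∣_ W) := IsZariskiLocalAtTarget.restrict hci _
    rw [MorphismProperty.arrow_mk_iso_iff @IsClosedImmersion (morphismRestrictRestrict i U.1 _)] at h2
    rwa [MorphismProperty.arrow_mk_iso_iff @IsClosedImmersion (morphismRestrictEq i e)] at h2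
  haveI := hci'
  haveI : IsAffine U'.1.toScheme := U'.2
  have hsurj : Function.Surjective (i.app U'.1).hom := by
    have h3 := (i ∣_ U'.1).app_surjective ⊤ (isAffineOpen_top _)
    have e1 : U'.1.ι ''ᵁ ⊤ = U'.1 := Scheme.Opens.ι_image_top U'.1
    have h4 : Function.Surjective (i.app (U'.1.ι ''ᵁ ⊤)).hom := by
      rw [morphismRestrict_app'] at h3
      intro b
      have e2 := image_morphismRestrict_preimage i U'.1 ⊤
      obtain ⟨a, ha⟩ := h3 (Y.presheaf.map (homOfLE e2.le).op b)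
      refine ⟨a, ?_⟩
      haveI : IsIso (homOfLE e2.le) := ⟨homOfLE e2.ge, Subsingleton.elim _ _, Subsingleton.elim _ _⟩
      exact (ConcreteCategory.bijective_of_isIso (Y.presheaf.map (homOfLE e2.le).op)).1 ha
    exact e1 ▸ h4
  have haff : IsAffineOpen (i ⁻¹ᵁ U'.1) := isAffine_of_isAffineHom (i ∣_ U'.1)
  refine ⟨hci', hsurj, haff, ?_⟩
  obtain ⟨rs', ⟨hlen, hK'⟩, hI'⟩ := exists_rs_congr i (Scheme.Opens.ι_image_top U.1)
    (P := fun V l => l.length = rs.length ∧ LCI.IsKoszulRegularSeq Γ(X, V) l) ⟨rs, ⟨rfl, hK⟩, hI⟩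
  have hWaff : IsAffineOpen W := by
    rw [← U.1.ι.isAffineOpen_iff_of_isOpenImmersion, e]
    exact U'.2
  have hWk : RingHom.ker ((i ∣_ U.1).app W).hom =
      Ideal.ofList (rs'.map (U.1.toScheme.presheaf.map (homOfLE (le_top : W ≤ ⊤)).op).hom) := by
    have := ((i ∣_ U.1).ker.map_ideal (U := ⟨W, hWaff⟩) (V := ⟨⊤, isAffineOpen_top _⟩) (show W ≤ ⊤ from le_top))
    rw [Scheme.Hom.ker_apply, Scheme.Hom.ker_apply, ker_app_morphismRestrict] at this
    erw [hI'] at this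
    exact this.symm.trans (Ideal.map_ofList _ _)
  rw [ker_app_morphismRestrict] at hWk
  obtain ⟨ss, ⟨hlen', hK''⟩, hI''⟩ := exists_rs_congr i e.symm
    (P := fun V l => l.length = rs.length ∧ LCI.IsKoszulRegularSeq Γ(X, V) l)
    ⟨_, ⟨(List.length_map _).trans hlen, GrothLib.KoszulColon.isKoszulRegularSeq_map _
      (flat_res (X := U.1.toScheme) (isAffineOpen_top _) hWaff le_top) rs' hK'⟩, hWk⟩
  exact ⟨ss, hlen', hK'', hI''⟩

/-- Koszul regular equations for a composite, near a point. -/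
theorem exists_equations_comp (i : Y ⟶ X) (j : Z ⟶ Y) (z : Z)
    (U : X.affineOpens) (hzU : i (j z) ∈ U.1) (hci : IsClosedImmersion (i ∣_ U.1)) (rs : List Γ(X, U.1))
    (hK : LCI.IsKoszulRegularSeq Γ(X, U.1) rs) (hI : RingHom.ker (i.app U.1).hom = Ideal.ofList rs)
    (W : Y.affineOpens) (hzW : j z ∈ W.1) (hcj : IsClosedImmersion (j ∣_ W.1)) (ms : List Γ(Y, W.1))
    (hM : LCI.IsKoszulRegularSeq Γ(Y, W.1) ms) (hJ : RingHom.ker (j.app W.1).hom = Ideal.ofList ms) :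
    ∃ V : X.affineOpens, (j ≫ i) z ∈ V.1 ∧ IsClosedImmersion ((j ≫ i) ∣_ V.1) ∧
      ∃ ts : List Γ(X, V.1), ts.length = ms.length + rs.length ∧ LCI.IsKoszulRegularSeq Γ(X, V.1) ts ∧
        RingHom.ker ((j ≫ i).app V.1).hom = Ideal.ofList ts := by
  haveI := hci
  obtain ⟨O, hO, hOW⟩ := (i ∣_ U.1).isClosedEmbedding.isInducing.isOpen_iff.1 ((i ⁻¹ᵁ U.1).ι ⁻¹ᵁ W.1).2
  obtain ⟨V, hV, hzV, hVO⟩ : ∃ V : X.Opens, IsAffineOpen V ∧ i (j z) ∈ V ∧ V ≤ U.1.ι ''ᵁ ⟨O, hO⟩ := by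
    have hz : (⟨i (j z), hzU⟩ : U.1) ∈ (⟨O, hO⟩ : U.1.toScheme.Opens) := by
      have : (⟨j z, hzU⟩ : (i ⁻¹ᵁ U.1 : Y.Opens)) ∈ (i ∣_ U.1) ⁻¹' O := by rw [hOW]; exact hzW
      show _ ∈ O
      convert Set.mem_preimage.1 this using 1
      exact Subtype.ext (congrArg (fun f : (i ⁻¹ᵁ U.1).toScheme ⟶ X => f ⟨j z, hzU⟩) (morphismRestrict_ι i U.1)).symm
    obtain ⟨_, ⟨V, hV, rfl⟩, hzV, hVO⟩ :=
      X.isBasis_affineOpens.exists_subset_of_mem_open (show i (j z) ∈ U.1.ι ''ᵁ ⟨O, hO⟩ from ⟨_, hz, rfl⟩)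
        (U.1.ι ''ᵁ ⟨O, hO⟩).2
    exact ⟨V, hV, hzV, hVO⟩
  have hVU : V ≤ U.1 := fun x hx => by
    obtain ⟨y, -, rfl⟩ := hVO hx; exact y.2
  have hVW : i ⁻¹ᵁ V ≤ W.1 := fun y hy => by
    obtain ⟨w, hw, hwy⟩ := hVO hy
    have hyU : y ∈ i ⁻¹ᵁ U.1 := hVU hy
    have h5 : (i ∣_ U.1) ⟨y, hyU⟩ = w := Subtype.ext
      ((congrArg (fun f : (i ⁻¹ᵁ U.1).toScheme ⟶ X => f ⟨y, hyU⟩) (morphismRestrict_ι i U.1)).trans hwy.symm)
    have : (⟨y, hyU⟩ : (i ⁻¹ᵁ U.1 : Y.Opens)) ∈ (i ∣_ U.1) ⁻¹' O := by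
      show (i ∣_ U.1) ⟨y, hyU⟩ ∈ O; rw [h5]; exact hw
    rw [hOW] at this
    exact this
  obtain ⟨hciV, hsurj, haff, ss, hlen, hKs, hIs⟩ := exists_shrink i U hci rs hI hK ⟨V, hV⟩ hVU
  obtain ⟨hcjV, -, -, ns, hlen', hMn, hJn⟩ := exists_shrink j W hcj ms hJ hM ⟨i ⁻¹ᵁ V, haff⟩ hVW
  choose lift hlift using hsurj
  refine ⟨⟨V, hV⟩, hzV, ?_, ns.map lift ++ ss, ?_, ?_, ?_⟩
  · rw [morphismRestrict_comp]
    exact MorphismProperty.comp_mem @IsClosedImmersion _ _ hcjV hciV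
  · rw [List.length_append, List.length_map, hlen, hlen']
  · refine GrothLib.KoszulColon.isKoszulRegularSeq_append ss _ hKs ?_
    let ψ := (Ideal.quotEquivOfEq hIs.symm).trans (RingHom.quotientKerEquivOfSurjective (f := (i.app V).hom)
      (fun b => ⟨lift b, hlift b⟩))
    have hbij : ((ns.map lift).map (Ideal.Quotient.mk (Ideal.ofList ss))) = ns.map ψ.symm.toRingHom := by
      rw [List.map_map]
      refine List.map_congr_left fun b _ => ?_
      show Ideal.Quotient.mk (Ideal.ofList ss) (lift b) = ψ.symm b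
      rw [RingEquiv.eq_symm_apply]
      exact hlift b
    rw [hbij]
    exact GrothLib.KoszulColon.isKoszulRegularSeq_map _ (RingHom.Flat.of_bijective ψ.symm.bijective) ns hMn
  · show RingHom.ker ((j ≫ i).app V).hom = _
    have hJn' : RingHom.ker (j.app (i ⁻¹ᵁ V)).hom = Ideal.ofList ns := hJn
    refine (show RingHom.ker ((j ≫ i).app V).hom = Ideal.comap (i.app V).hom (RingHom.ker (j.app (i ⁻¹ᵁ V)).hom) from
      (RingHom.comap_ker _ _).symm).trans ?_
    rw [hJn', Ideal.ofList_append, ← hIs]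
    have : Ideal.ofList ns = (Ideal.ofList (ns.map lift)).map (i.app V).hom := by
      rw [Ideal.map_ofList, List.map_map]
      congr 1
      conv_lhs => rw [← List.map_id ns]
      exact List.map_congr_left fun b _ => (hlift b).symm
    rw [this, Ideal.comap_map_of_surjective _ (fun b => ⟨lift b, hlift b⟩), ← RingHom.ker_eq_comap_bot]
    try rfl

end GrothLib.RegSeqLoc
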